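/-
Project G2SYL (helper3): the Sylow 2-subgroups of `G₂(q)`, `q` odd.  Part 1: the model group
`(Z × Z) ⋊ (2 × 2)`, `Z` cyclic of order `2 ^ n`, where the four-group is generated by the inversion and the swap.
-/
import Cfsg.Agent.Inv.MaxClass

set_option autoImplicit false
open Subgroup
open CL.Inv

namespace CL.FW.Syl

/-- `a x y` is the element `(x, y)` of `A`, and `i x y`, `s x y`, `t x y` are its products with the inversion, the
swap and their product. -/
inductive MG (n : ℕ) : Type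
  | a (x y : ZMod (2 ^ n)) : MG n
  | i (x y : ZMod (2 ^ n)) : MG n
  | s (x y : ZMod (2 ^ n)) : MG n
  | t (x y : ZMod (2 ^ n)) : MG n
  deriving DecidableEq

namespace MG

variable {n : ℕ}

def mul : MG n → MG n → MG n
  | a x y, a x' y' => a (x + x') (y + y')
  | a x y, i x' y' => i (x + x') (y + y')
  | a x y, s x' y' => s (x + x') (y + y')
  | a x y, t x' y' => t (x + x') (y + y')
  | i x y, a x' y' => i (x - x') (y - y')
  | i x y, i x' y' => a (x - x') (y - y')
  | i x y, s x' y' => t (x - x') (y - y')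
  | i x y, t x' y' => s (x - x') (y - y')
  | s x y, a x' y' => s (x + y') (y + x')
  | s x y, i x' y' => t (x + y') (y + x')
  | s x y, s x' y' => a (x + y') (y + x')
  | s x y, t x' y' => i (x + y') (y + x')
  | t x y, a x' y' => t (x - y') (y - x')
  | t x y, i x' y' => s (x - y') (y - x')
  | t x y, s x' y' => i (x - y') (y - x')
  | t x y, t x' y' => a (x - y') (y - x')

def inv : MG n → MG n
  | a x y => a (-x) (-y)
  | i x y => i x y
  | s x y => s (-y) (-x)
  | t x y => t y x

instance : Mul (MG n) := ⟨mul⟩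
instance : Inv (MG n) := ⟨inv⟩
instance : One (MG n) := ⟨a 0 0⟩

variable {x y x' y' : ZMod (2 ^ n)}

@[simp] theorem a_a : a x y * a x' y' = a (x + x') (y + y') := rfl
@[simp] theorem a_i : a x y * i x' y' = i (x + x') (y + y') := rfl
@[simp] theorem a_s : a x y * s x' y' = s (x + x') (y + y') := rfl
@[simp] theorem a_t : a x y * t x' y' = t (x + x') (y + y') := rfl
@[simp] theorem i_a : i x y * a x' y' = i (x - x') (y - y') := rfl
@[simp] theorem i_i : i x y * i x' y' = a (x - x') (y - y') := rfl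
@[simp] theorem i_s : i x y * s x' y' = t (x - x') (y - y') := rfl
@[simp] theorem i_t : i x y * t x' y' = s (x - x') (y - y') := rfl
@[simp] theorem s_a : s x y * a x' y' = s (x + y') (y + x') := rfl
@[simp] theorem s_i : s x y * i x' y' = t (x + y') (y + x') := rfl
@[simp] theorem s_s : s x y * s x' y' = a (x + y') (y + x') := rfl
@[simp] theorem s_t : s x y * t x' y' = i (x + y') (y + x') := rfl
@[simp] theorem t_a : t x y * a x' y' = t (x - y') (y - x') := rfl
@[simp] theorem t_i : t x y * i x' y' = s (x - y') (y - x') := rfl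
@[simp] theorem t_s : t x y * s x' y' = i (x - y') (y - x') := rfl
@[simp] theorem t_t : t x y * t x' y' = a (x - y') (y - x') := rfl
@[simp] theorem a_inv : (a x y)⁻¹ = a (-x) (-y) := rfl
@[simp] theorem i_inv : (i x y)⁻¹ = i x y := rfl
@[simp] theorem s_inv : (s x y)⁻¹ = s (-y) (-x) := rfl
@[simp] theorem t_inv : (t x y)⁻¹ = t y x := rfl
theorem one_def : (1 : MG n) = a 0 0 := rfl

instance : Group (MG n) := Group.ofLeftAxioms
  (by rintro (_ | _ | _ | _) (_ | _ | _ | _) (_ | _ | _ | _) <;> simp only [a_a, a_i, a_s, a_t, i_a, i_i, i_s, i_t,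
    s_a, s_i, s_s, s_t, t_a, t_i, t_s, t_t] <;> congr 1 <;> ring)
  (by rintro (_ | _ | _ | _) <;> simp [one_def])
  (by rintro (_ | _ | _ | _) <;> simp [one_def])

@[simp] theorem a_eq_one : a x y = 1 ↔ x = 0 ∧ y = 0 := by simp [one_def]
@[simp] theorem i_ne_one : i x y ≠ 1 := by simp [one_def]
@[simp] theorem s_ne_one : s x y ≠ 1 := by simp [one_def]
@[simp] theorem t_ne_one : t x y ≠ 1 := by simp [one_def]

def equiv : MG n ≃ (ZMod (2 ^ n) × ZMod (2 ^ n)) × Fin 4 where
  toFun
    | a x y => ((x, y), 0)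
    | i x y => ((x, y), 1)
    | s x y => ((x, y), 2)
    | t x y => ((x, y), 3)
  invFun
    | ((x, y), 0) => a x y
    | ((x, y), 1) => i x y
    | ((x, y), 2) => s x y
    | ((x, y), 3) => t x y
  left_inv := by rintro (_ | _ | _ | _) <;> rfl
  right_inv := by rintro ⟨⟨x, y⟩, k⟩; fin_cases k <;> rfl

instance : Finite (MG n) := Finite.of_equiv _ equiv.symm

theorem card : Nat.card (MG n) = 2 ^ (2 * n + 2) := by
  rw [Nat.card_congr equiv]; simp [pow_succ, two_mul, pow_add, mul_assoc]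

theorem isPGroup : IsPGroup 2 (MG n) := IsPGroup.of_card card

theorem a_pow (k : ℕ) : a x y ^ k = a ((k : ZMod (2 ^ n)) * x) ((k : ZMod (2 ^ n)) * y) := by
  induction k with
  | zero => simp [one_def]
  | succ k ih => rw [pow_succ, ih, a_a]; push_cast; congr 1 <;> ring

theorem exists_sq (p : MG n) : ∃ x y, p * p = a x y := by
  rcases p with _ | _ | _ | _ <;> exact ⟨_, _, rfl⟩

/-- The automorphism `(x, y) ↦ (x, -y)`, which interchanges the swap and its product with the inversion. -/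
def sigma : MG n ≃* MG n where
  toFun
    | a x y => a x (-y)
    | i x y => i x (-y)
    | s x y => t x (-y)
    | t x y => s x (-y)
  invFun
    | a x y => a x (-y)
    | i x y => i x (-y)
    | s x y => t x (-y)
    | t x y => s x (-y)
  left_inv := by rintro (_ | _ | _ | _) <;> simp
  right_inv := by rintro (_ | _ | _ | _) <;> simp
  map_mul' := by rintro (_ | _ | _ | _) (_ | _ | _ | _) <;> simp <;> (try constructor) <;> ring

@[simp] theorem sigma_a : sigma (a x y) = a x (-y) := rfl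
@[simp] theorem sigma_i : sigma (i x y) = i x (-y) := rfl
@[simp] theorem sigma_s : sigma (s x y) = t x (-y) := rfl
@[simp] theorem sigma_t : sigma (t x y) = s x (-y) := rfl

/-- The automorphism multiplying the inversion by `(1, 1)`. -/
def tau : MG n ≃* MG n where
  toFun
    | a x y => a x y
    | i x y => i (x + 1) (y + 1)
    | s x y => s x y
    | t x y => t (x + 1) (y + 1)
  invFun
    | a x y => a x y
    | i x y => i (x - 1) (y - 1)
    | s x y => s x y
    | t x y => t (x - 1) (y - 1)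
  left_inv := by rintro (_ | _ | _ | _) <;> simp
  right_inv := by rintro (_ | _ | _ | _) <;> simp
  map_mul' := by rintro (_ | _ | _ | _) (_ | _ | _ | _) <;> simp <;> (try constructor) <;> ring

@[simp] theorem tau_a : tau (a x y) = a x y := rfl
@[simp] theorem tau_i : tau (i x y) = i (x + 1) (y + 1) := rfl
@[simp] theorem tau_s : tau (s x y) = s x y := rfl
@[simp] theorem tau_t : tau (t x y) = t (x + 1) (y + 1) := rfl

/-! ### Parities and maximal subgroups -/

variable [hn : Fact (2 ≤ n)]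

variable (n) in
theorem h4 : 4 * zq n = 0 := four_mul_zq hn.1
variable (n) in
theorem h2 : 2 * zq n ≠ 0 := two_mul_zq_ne_zero hn.1
theorem two_cases (h : 2 * x = 0) : x = 0 ∨ x = 2 * zq n := zm_two_mul_eq_zero hn.1 h

/-- The parity. -/
def pr : ZMod (2 ^ n) →+* ZMod 2 := ZMod.castHom (dvd_pow_self 2 (by have := hn.1; omega)) (ZMod 2)

@[simp] theorem pr_two_mul : pr (2 * x) = 0 := by rw [map_mul, map_ofNat, show (2 : ZMod 2) = 0 from rfl, zero_mul]
@[simp] theorem pr_neg : pr (-x) = pr x := by rw [map_neg, ZMod.neg_eq_self_mod_two]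
@[simp] theorem pr_sub : pr (x - y) = pr x + pr y := by rw [sub_eq_add_neg, map_add, pr_neg]

theorem pr_eq_zero : pr x = 0 ↔ ∃ r, x = 2 * r := by
  refine ⟨fun h => ?_, by rintro ⟨r, rfl⟩; simp⟩
  obtain ⟨r, rfl | rfl⟩ := zm_even_or_odd x
  · exact ⟨r, rfl⟩
  · simp at h

theorem pr_eq_one : pr x = 1 ↔ ∃ r, x = 2 * r + 1 := by
  refine ⟨fun h => ?_, by rintro ⟨r, rfl⟩; simp⟩
  obtain ⟨r, rfl | rfl⟩ := zm_even_or_odd x
  · simp at h
  · exact ⟨r, rfl⟩

theorem pr_zq (h3 : 3 ≤ n) : pr (zq n) = 0 := by rw [zq_even h3, pr_two_mul]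

def bi : MG n → ZMod 2
  | a _ _ => 0
  | i _ _ => 1
  | s _ _ => 0
  | t _ _ => 1

def bs : MG n → ZMod 2
  | a _ _ => 0
  | i _ _ => 0
  | s _ _ => 1
  | t _ _ => 1

def bp : MG n → ZMod 2
  | a x y => pr x + pr y
  | i x y => pr x + pr y
  | s x y => pr x + pr y
  | t x y => pr x + pr y

omit hn in
theorem bi_mul (p p' : MG n) : bi (p * p') = bi p + bi p' := by
  rcases p with _ | _ | _ | _ <;> rcases p' with _ | _ | _ | _ <;> rfl

omit hn in
theorem bs_mul (p p' : MG n) : bs (p * p') = bs p + bs p' := by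
  rcases p with _ | _ | _ | _ <;> rcases p' with _ | _ | _ | _ <;> rfl

theorem bp_mul (p p' : MG n) : bp (p * p') = bp p + bp p' := by
  rcases p with _ | _ | _ | _ <;> rcases p' with _ | _ | _ | _ <;> simp [bp] <;> ring

end MG

/-- The kernel of a homomorphism to the group of order two. -/
def ker2 {L : Type*} [Group L] (f : L → ZMod 2) (hf : ∀ p p', f (p * p') = f p + f p') : Subgroup L :=
  (MonoidHom.mk' (fun p => Multiplicative.ofAdd (f p)) fun p p' => by rw [hf, ofAdd_add]).ker

@[simp] theorem mem_ker2 {L : Type*} [Group L] {f : L → ZMod 2} {hf : ∀ p p', f (p * p') = f p + f p'} {p : L} :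
    p ∈ ker2 f hf ↔ f p = 0 := by simp [ker2, MonoidHom.mem_ker]

theorem index_ker2 {L : Type*} [Group L] {f : L → ZMod 2} {hf : ∀ p p', f (p * p') = f p + f p'} {p : L}
    (h : f p = 1) : (ker2 f hf).index = 2 := index_eq_two_iff.2 ⟨p, fun b => by
  simp only [mem_ker2, hf, h]
  generalize f b = c
  revert c
  decide⟩

theorem card_ker2 {L : Type*} [Group L] {f : L → ZMod 2} {hf : ∀ p p', f (p * p') = f p + f p'} {p : L}
    (h : f p = 1) : 2 * Nat.card (ker2 f hf) = Nat.card L := by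
  rw [← (ker2 f hf).card_mul_index, index_ker2 h, mul_comm]

namespace MG

variable {n : ℕ} [hn : Fact (2 ≤ n)] {x y x' y' : ZMod (2 ^ n)}

/-- `⟨A, s⟩` -/
def M1 (n : ℕ) : Subgroup (MG n) := ker2 bi bi_mul
/-- `⟨A, t⟩` -/
def M2 (n : ℕ) : Subgroup (MG n) := ker2 (fun p => bi p + bs p) fun p p' => by rw [bi_mul, bs_mul]; ring
/-- `⟨A, i⟩` -/
def T (n : ℕ) : Subgroup (MG n) := ker2 bs bs_mul
/-- The central product of the two quaternion groups. -/
def R (n : ℕ) [Fact (2 ≤ n)] : Subgroup (MG n) := ker2 bp bp_mul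
def M3 (n : ℕ) [Fact (2 ≤ n)] : Subgroup (MG n) := ker2 (fun p => bp p + bs p) fun p p' => by
  rw [bp_mul, bs_mul]; ring

omit hn in
theorem card_M1 : 2 * Nat.card (M1 n) = Nat.card (MG n) := card_ker2 (p := i 0 0) rfl
omit hn in
theorem card_M2 : 2 * Nat.card (M2 n) = Nat.card (MG n) := card_ker2 (p := i 0 0) rfl
omit hn in
theorem card_T : 2 * Nat.card (T n) = Nat.card (MG n) := card_ker2 (p := s 0 0) rfl
theorem card_R : 2 * Nat.card (R n) = Nat.card (MG n) := card_ker2 (p := a 1 0) (by simp [bp])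
theorem card_M3 : 2 * Nat.card (M3 n) = Nat.card (MG n) := card_ker2 (p := s 0 0) (by simp [bp, bs])

/-- The central involution. -/
abbrev z (n : ℕ) : MG n := a (2 * zq n) (2 * zq n)
abbrev u (n : ℕ) : MG n := a (2 * zq n) 0

theorem neg_h : -(2 * zq n) = 2 * zq n := by linear_combination (-1) * h4 n
theorem sub_h : x - 2 * zq n = x + 2 * zq n := by linear_combination (-1) * h4 n
theorem h_add_h : 2 * zq n + 2 * zq n = 0 := by linear_combination h4 n

theorem z_comm (p : MG n) : p * z n = z n * p := by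
  rcases p with _ | _ | _ | _ <;> simp [sub_h, add_comm]

theorem z_sq : z n * z n = 1 := by simp [h_add_h]
theorem u_sq : u n * u n = 1 := by simp [h_add_h]
theorem z_ne : z n ≠ 1 := by simp [h2 n]
theorem u_ne : u n ≠ 1 := by simp [h2 n]
theorem u_ne_z : u n ≠ z n := by simp [(h2 n).symm]

theorem center_cases {p : MG n} (h : ∀ c, c * p = p * c) : p = 1 ∨ p = z n := by
  have h1 := h (a 1 0)
  have h2 := h (i 0 0)
  have h3 := h (s 0 0)
  have h4 := zm_two_ne_zero hn.1
  rcases p with ⟨x, y⟩ | _ | _ | _ <;> simp at h1 h2 h3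
  · obtain rfl := h3.1
    rcases two_cases (x := y) (by linear_combination (-1) * h2.1) with rfl | rfl <;> simp
  · exact (h4 (by linear_combination h1)).elim
  · exact (h4 (by linear_combination 2 * h1)).elim
  · exact (h4 (by linear_combination 2 * h1.1)).elim

theorem a_cases (h : a x y * a x y = 1) :
    a x y = 1 ∨ a x y = z n ∨ a x y = u n ∨ s 0 0 * a x y * (s 0 0)⁻¹ = u n := by
  simp only [a_a, a_eq_one, ← two_mul] at h
  rcases two_cases h.1 with rfl | rfl <;> rcases two_cases h.2 with rfl | rfl <;> simp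

omit hn in
theorem conj_i (r r' : ZMod (2 ^ n)) : ∃ c, c * i x y * c⁻¹ = i (x + 2 * r) (y + 2 * r') :=
  ⟨a r r', by simp; constructor <;> ring⟩

theorem i_cases (x y : ZMod (2 ^ n)) :
    (pr x + pr y = 0 ∧ ((∃ c, c * i x y * c⁻¹ = i 0 0) ∨ ∃ c, c * i x y * c⁻¹ = i 1 1)) ∨
      (pr x + pr y = 1 ∧ ∃ c, c * i x y * c⁻¹ = i 1 0) := by
  obtain ⟨r, rfl | rfl⟩ := zm_even_or_odd x <;> obtain ⟨r', rfl | rfl⟩ := zm_even_or_odd y
  · exact Or.inl ⟨by simp, Or.inl ⟨a (-r) (-r'), by simp; constructor <;> ring⟩⟩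
  · exact Or.inr ⟨by simp, s (-r') (-r), by simp; constructor <;> ring⟩
  · exact Or.inr ⟨by simp, a (-r) (-r'), by simp; constructor <;> ring⟩
  · exact Or.inl ⟨by simp; rfl, Or.inr ⟨a (-r) (-r'), by simp; constructor <;> ring⟩⟩

omit hn in
theorem s_cases (h : s x y * s x y = 1) : ∃ c, c * s x y * c⁻¹ = s 0 0 :=
  ⟨a (-x) 0, by simp at h ⊢; exact h.2⟩

omit hn in
theorem t_cases (h : t x y * t x y = 1) : ∃ c, c * t x y * c⁻¹ = t 0 0 :=
  ⟨a (-x) 0, by simp at h ⊢; linear_combination h.2⟩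

end MG

end CL.FW.Syl
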